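import Groth.Agent.Lib.Helper16.AlgSp.FppfLoc
import Groth.Agent.Lib.Helper16.Sch.SmoothSec
import Groth.Agent.Lib.Helper15.AlgSpEtCl

/-!
# A smooth covering of an algebraic space is refined by an étale covering (helper19)
-/

set_option autoImplicit false
universe u
open CategoryTheory CategoryTheory.Limits AlgebraicGeometry MorphismProperty Opposite
open AlgSp Groth.Agent.Helper15

namespace Groth.Agent.Helper19.SmEt

variable {S : Scheme.{u}}

theorem exists_et_refinement {ι : Type u} {X : Sp S} (hX : IsAlgSpace X)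
    {Xi : ι → Sp S} (hXi : ∀ i, IsAlgSpace (Xi i)) {g : ∀ i, Xi i ⟶ X}
    (h : IsSmCover Xi g) :
    ∃ (κ : Type u) (B : κ → Over S) (c : ∀ k, (yon S).obj (B k) ⟶ X),
      IsEtCover (fun k => (yon S).obj (B k)) c ∧
      ∀ k, ∃ (i : ι) (l : (yon S).obj (B k) ⟶ Xi i), l ≫ g i = c k := by
  obtain ⟨V, p, hpe, hps⟩ := hX.atlas
  have hrep := hpe.rep
  choose Vi r hre hrs using fun i => (hXi i).atlas
  have sqA := fun i => hrep.isPullback (r i ≫ g i)
  have hαe : ∀ i, Etale (hrep.snd (r i ≫ g i)).left := fun i => hpe.property_snd _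
  choose η hη using fun i => (yon S).map_surjective (hrep.fst (r i ≫ g i))
  have hηP : ∀ i, Smooth (η i).left := by
    intro i
    refine (h.1 i) ((yon S).map (hrep.snd (r i ≫ g i)) ≫ r i) p (η i)
        ((RepWith @Etale).comp_mem _ _ ((repWith_yon_map_iff _ _).2 (hαe i)) (hre i)) hpe ?_
    rw [Category.assoc, ← (sqA i).w, hη]
  have sqA' : ∀ i, IsPullback ((yon S).map (η i)) ((yon S).map (hrep.snd (r i ≫ g i))) p
      (r i ≫ g i) := by
    intro i
    rw [hη]; exact sqA i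
  let κ : Type u := Σ i : ι, {v : V.left // v ∈ Set.range (η i).left}
  have hsec : ∀ k : κ, ∃ (S' : Scheme.{u}) (g' : S' ⟶ V.left) (s' : S'), Etale g' ∧
      g' s' = k.2.1 ∧ ∃ h' : S' ⟶ (hrep.pullback (r k.1 ≫ g k.1)).left, h' ≫ (η k.1).left = g' := by
    intro k
    haveI := hηP k.1
    exact Groth.Agent.Helper16.SmoothSec.smooth_section (η k.1).left k.2.1 k.2.2
  choose S' g' s' hg'e hg's h' hh' using hsec
  let B : κ → Over S := fun k => Over.mk (g' k ≫ V.hom)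
  let γ : ∀ k, B k ⟶ V := fun k => Over.homMk (g' k) rfl
  let σ : ∀ k, B k ⟶ hrep.pullback (r k.1 ≫ g k.1) := fun k => Over.homMk (h' k) (by
    change h' k ≫ (hrep.pullback (r k.1 ≫ g k.1)).hom = g' k ≫ V.hom
    rw [← hh' k, Category.assoc, Over.w (η k.1)])
  have hσγ : ∀ k, σ k ≫ η k.1 = γ k := fun k => by
    ext
    exact hh' k
  refine ⟨κ, B, fun k => (yon S).map (γ k) ≫ p, ⟨fun k => ?_, fun x => ?_⟩, fun k => ?_⟩
  · refine isEtaleMor_of_repWith_etale _ ((RepWith @Etale).comp_mem _ _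
      ((repWith_yon_map_iff _ _).2 ?_) hpe)
    exact hg'e k
  · obtain ⟨v, rfl⟩ := surjective_ofPt p hps x
    obtain ⟨i, xi, hxi⟩ := h.2 (Points.ofPt p v)
    obtain ⟨vi, rfl⟩ := surjective_ofPt (r i) (hrs i) xi
    rw [Points.map_ofPt] at hxi
    obtain ⟨y, hy1, hy2⟩ := exists_of_ofPt_eq (sqA' i) v vi hxi.symm
    obtain ⟨k, hk1, hk2⟩ : ∃ k : κ, k.1 = i ∧ k.2.1 = v := ⟨⟨i, v, y, hy1⟩, rfl, rfl⟩
    refine ⟨k, ?_⟩
    have e : Points.map ((yon S).map (γ k) ≫ p) (Points.ofPt (𝟙 _) (s' k)) = Points.ofPt p v := by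
      rw [Points.map_ofPt, Category.id_comp, ofPt_comp_yon_map]
      congr 1
      exact (hg's k).trans hk2
    exact ⟨_, e⟩
  · refine ⟨k.1, (yon S).map (σ k ≫ hrep.snd (r k.1 ≫ g k.1)) ≫ r k.1, ?_⟩
    have e1 : (yon S).map (hrep.snd (r k.1 ≫ g k.1)) ≫ r k.1 ≫ g k.1 =
        (yon S).map (η k.1) ≫ p := by
      rw [← (sqA k.1).w, hη]
    calc ((yon S).map (σ k ≫ hrep.snd (r k.1 ≫ g k.1)) ≫ r k.1) ≫ g k.1
        = (yon S).map (σ k) ≫
            ((yon S).map (hrep.snd (r k.1 ≫ g k.1)) ≫ r k.1 ≫ g k.1) := by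
          simp only [Functor.map_comp, Category.assoc]
      _ = (yon S).map (σ k ≫ η k.1) ≫ p := by
          rw [e1, Functor.map_comp, Category.assoc]
      _ = (yon S).map (γ k) ≫ p := by rw [hσγ]

end Groth.Agent.Helper19.SmEt
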